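import Mathlib
import Cfsg.Agent.Base

/-! Sylow `2`-subgroups of order at most sixteen and rank at least three. -/

set_option autoImplicit false
set_option linter.style.haveILetI false

open Subgroup
open scoped commutatorElement

namespace H84.Al

theorem comm_of_index {H : Type*} [Group H] [Finite H] {K : Subgroup H} (hK : K.index = 2)
    (h8 : Nat.card K = 8) (h2 : ∀ a ∈ K, a⁻¹ = a) (hc : ∀ z ∈ K ⊓ center H, ∀ w ∈ K ⊓ center H, z ≠ 1 → w ≠ 1 →
      ∃ σ : H ≃* H, σ z = w) : IsMulCommutative H := by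
  haveI := normal_of_index_eq_two hK
  obtain ⟨s, hs⟩ := index_eq_two_iff'.1 hK
  have sK : s ∉ K := fun c => (hs 1).elim (fun h => h.2 K.one_mem) fun h => h.2 (by simpa using c)
  have cm : ∀ a ∈ K, ∀ b ∈ K, a * b = b * a := fun a ha b hb => by
    rw [← h2 _ (K.mul_mem ha hb), mul_inv_rev, h2 a ha, h2 b hb]
  have cj : ∀ a ∈ K, s * a * s⁻¹ ∈ K := fun a ha => Normal.conj_mem inferInstance a ha s
  have dec : ∀ g, g ∈ K ∨ ∃ a ∈ K, g = s * a := fun g => (em _).imp_right fun c =>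
    ⟨s⁻¹ * g, (mul_mem_iff_of_index_two hK).2 (by simp only [inv_mem_iff, sK, c]), by simp⟩
  let φ : K →* H := MonoidHom.mk' (fun e => s * e * s⁻¹ * (e : H)⁻¹) fun a b => by
    have := cm _ (cj b b.2) _ (K.inv_mem a.2)
    have := cm _ (K.inv_mem b.2) _ (K.inv_mem a.2)
    simp only [coe_mul, mul_inv_rev]
    calc _ = s * a * s⁻¹ * (s * b * s⁻¹ * (b : H)⁻¹ * (a : H)⁻¹) := by group
      _ = _ := by rw [cm _ (K.mul_mem (cj b b.2) (K.inv_mem b.2)) _ (K.inv_mem a.2)]; group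
  have cen : ∀ a ∈ K, s * a * s⁻¹ * a⁻¹ = 1 → a ∈ center H := fun a ha e => mem_center_iff.2 fun g => by
    rcases dec g with c | ⟨b, hb, rfl⟩
    · exact cm g c a ha
    · rw [mul_assoc, cm b hb a ha, ← mul_assoc, (commutatorElement_eq_one_iff_mul_comm.1 e :), mul_assoc]
  have rk : ∀ a : K, φ a ∈ K ⊓ center H := fun a => by
    have m : s * a * s⁻¹ * (a : H)⁻¹ ∈ K := K.mul_mem (cj a a.2) (K.inv_mem a.2)
    refine mem_inf.2 ⟨m, cen (s * a * s⁻¹ * (a : H)⁻¹) m ?_⟩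
    rw [h2 _ m]
    calc _ = s * s * a * (s * s)⁻¹ * (a : H)⁻¹ * (a * (s * (a : H)⁻¹ * s⁻¹ * (s * a * s⁻¹)) * (a : H)⁻¹) := by group
      _ = 1 := by rw [cm _ (mul_self_mem_of_index_two hK s) a a.2]; group
  have cl : commutator H ≤ φ.range := commutator_le.2 fun g _ k _ => by
    have one : ∀ a ∈ K, ∀ b ∈ K, ⁅s * a, b⁆ ∈ φ.range := fun a ha b hb => ⟨⟨b, hb⟩, by
      rw [commutatorElement_def, mul_assoc s a b, cm a ha b hb]; simp [φ, mul_assoc]⟩
    rcases dec g with c | ⟨a, ha, rfl⟩ <;> rcases dec k with d | ⟨b, hb, rfl⟩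
    · rw [commutatorElement_eq_one_iff_mul_comm.2 (cm g c k d)]; exact one_mem _
    · rw [← commutatorElement_inv]; exact inv_mem (one b hb g c)
    · exact one a ha k d
    · refine ⟨⟨_, K.mul_mem hb (K.inv_mem ha)⟩, ?_⟩
      rw [← mul_inv_cancel_right (φ _) s, ← mem_center_iff.1 (rk _).2 s]
      show s * (s * (b * a⁻¹) * s⁻¹ * (b * a⁻¹)⁻¹) * s⁻¹ = _
      rw [mul_inv_rev, inv_inv, ← mul_assoc _ a, cm _ (cj _ (K.mul_mem hb (K.inv_mem ha))) a ha,
        commutatorElement_def]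
      group
  by_contra hn
  have ne : ∃ a, φ a ≠ 1 := by
    by_contra! c
    refine hn ⟨⟨fun a b => commutatorElement_eq_one_iff_mul_comm.1 ?_⟩⟩
    obtain ⟨e, he⟩ := cl (commutator_mem_commutator (mem_top a) (mem_top b))
    rw [← he, c]
  obtain ⟨e, he⟩ := ne
  have eq : φ.ker.map K.subtype = φ.range := le_antisymm (by
    rintro _ ⟨w, hw, rfl⟩
    by_cases w1 : (w : H) = 1
    · exact (show K.subtype w = 1 from w1) ▸ one_mem _
    obtain ⟨σ, hσ⟩ := hc _ (rk e) w ⟨w.2, cen _ w.2 hw⟩ he w1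
    rw [coe_subtype, hσ.symm.trans (map_commutatorElement σ s e)]
    exact cl (commutator_mem_commutator (mem_top _) (mem_top _))) (by
      rintro _ ⟨a, rfl⟩
      exact ⟨⟨_, (rk a).1⟩, commutatorElement_eq_one_iff_mul_comm.2 (mem_center_iff.1 (rk a).2 s), rfl⟩)
  have h1 := φ.ker.card_mul_index
  rw [index_ker, ← eq, card_map_of_injective K.subtype_injective, h8] at h1
  generalize Nat.card φ.ker = m at h1
  rcases le_or_gt m 2 with c | c <;> nlinarith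

theorem exists_ab {G : Type*} [Group G] [Finite G] (hc : ∀ t v : G, orderOf t = 2 → orderOf v = 2 → IsConj t v)
    (hr : ¬ Cfsg.PRankLE 2 2 G) (h32 : ¬ 32 ∣ Nat.card G) : ∃ S : Sylow 2 G, IsMulCommutative S.1 := by
  obtain ⟨E, hE⟩ := not_forall.1 hr
  simp only [Classical.not_imp, not_le] at hE
  obtain ⟨ab, sq, c4⟩ := hE
  have hp : IsPGroup 2 E := fun a => ⟨1, Subtype.ext (sq a a.2)⟩
  obtain ⟨S, hS⟩ := hp.exists_le_sylow
  obtain ⟨m, hm⟩ := IsPGroup.iff_card.1 hp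
  obtain ⟨n, hn⟩ := IsPGroup.iff_card.1 S.isPGroup'
  have n4 : n ≤ 4 := by
    by_contra c
    exact h32 ((pow_dvd_pow 2 (by omega : 5 ≤ n)).trans (hn ▸ S.1.card_subgroup_dvd_card))
  have m3 : 2 < m := (Nat.pow_lt_pow_iff_right one_lt_two).1 (hm ▸ c4)
  have e := (E.subgroupOf S).card_mul_index
  have e1 := Nat.card_congr (subgroupOfEquivOfLe hS).toEquiv
  rw [e1, hm, hn] at e
  refine ⟨S, ?_⟩
  by_cases c : n ≤ m
  · rwa [← eq_of_le_of_card_ge hS (hm ▸ hn ▸ Nat.pow_le_pow_right two_pos c)]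
  obtain rfl : m = 3 := by omega
  obtain rfl : n = 4 := by omega
  refine comm_of_index (K := E.subgroupOf S) (by omega) (e1.trans hm) (fun a ha =>
    Subtype.ext (inv_eq_of_mul_eq_one_right ((pow_two _).symm.trans (sq a ha)))) fun z hz w hw z1 w1 => ?_
  have o : ∀ z : S, z ∈ E.subgroupOf S → z ≠ 1 → orderOf (z : G) = 2 := fun z hz z1 =>
    orderOf_eq_prime (sq z hz) fun e => z1 (Subtype.ext e)
  have cc : ∀ z : S, z ∈ center S → (z : G) ∈ centralizer (S : Set G) := fun z hz g hg =>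
    congrArg Subtype.val (mem_center_iff.1 hz ⟨g, hg⟩)
  obtain ⟨g, hg⟩ := isConj_iff.1 (hc _ _ (o z hz.1 z1) (o w hw.1 w1))
  obtain ⟨n, hn, e⟩ := S.conj_eq_normalizer_conj_of_mem_centralizer z g⁻¹ (cc z hz.2)
    (by rw [inv_inv, hg]; exact cc w hw.2)
  rw [inv_inv, hg] at e
  exact ⟨S.1.normalizerMonoidHom ⟨n⁻¹, inv_mem hn⟩, Subtype.ext ((show n⁻¹ * z * n⁻¹⁻¹ = w by rw [inv_inv, e]))⟩

end H84.Al
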