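import Mathlib
import Cfsg.Agent.Base
import Cfsg.Agent.Lib.SSC.One

/-! Strongly self-centralizing subgroups of index two: the rational character. -/

set_option autoImplicit false
set_option linter.unusedSectionVars false
set_option linter.style.haveILetI false

open Cfsg Subgroup Finset H17.Ord H84.SC
open scoped ComplexConjugate

namespace H84.Al

variable {G : Type*} [Group G] [Finite G] {A : Subgroup G}

local notation "𝐍(" A ")" => Subgroup.normalizer (A : Set G)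
local notation "𝐂[" a "]" => Subgroup.centralizer ({a} : Set G)

/-- the remaining characters vanish on the conjugates of `A` -/
def Van (A : Subgroup G) (χ : IrrCharacter G) (Y : Finset (IrrCharacter G)) : Prop :=
  ∀ ψ : IrrCharacter G, ψ ∉ Y → ψ ≠ χ → ψ ≠ triv G → ∀ g, InK A g → (ψ : G → ℂ) g = 0

theorem exists_van [IsSimpleGroup G] (hna : ∃ a b : G, a * b ≠ b * a) (h : SSC A)
    (he : A.relIndex 𝐍(A) = 2) (hn : 3 < Nat.card A) : ∃ ε χ Y x y, T2 A ε χ Y x y ∧ Van A χ Y := by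
  obtain ⟨δ, c, a, Y, Z, hX⟩ := h.exists_ex he hn
  obtain ⟨X, hY⟩ := card_pos.1 (lt_of_lt_of_le two_pos hX.two_le)
  obtain ⟨o1, o2⟩ := hX.one_le
  have nr := hX.norm
  have h1 := (hX.rel0 not_inK_one).2
  simp only [dg_cast] at h1
  have h2 : 0 ≤ ∑ i ∈ Z, a i ^ 2 := sum_nonneg fun _ _ => sq_nonneg _
  have t2 : (2 : ℤ) ≤ Y.card := by exact_mod_cast hX.two_le
  have s1 : ∑ i ∈ Z, a i ^ 2 = 1 := by
    by_contra hc
    have h3 := h1 X hY
    rw [eq_zero_of_sum_sq (by push_cast at nr; omega), add_zero] at h3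
    have h4 : ((Y.card : ℤ) * c - δ) * dg X + 1 = 0 := by exact_mod_cast h3
    have h5 : (c - δ) ^ 2 + ((Y.card : ℤ) - 1) * c ^ 2 = 2 := by push_cast at nr; omega
    have h6 : dg X ≠ 1 := fun e => hX.tr (eq_triv_of_dg hna e ▸ hY)
    have := Int.eq_one_of_mul_eq_one_left (a := -((Y.card : ℤ) * c - δ)) (by positivity)
      (by linarith : _ * (dg X : ℤ) = 1)
    omega
  obtain rfl := o2 (by push_cast at nr; omega)
  obtain ⟨χ, hχ, sg, h0, hs⟩ := sum_sq_eq_one s1
  obtain ⟨cY, c1⟩ := (hX.mem χ).1 hχ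
  have d1 : dg χ ≠ 1 := fun e => c1 (eq_triv_of_dg hna e)
  have h3 := h1 X hY
  rw [hs] at h3
  have h4 : -δ * dg X + 1 + a χ * dg χ = 0 := by
    have : ((-δ * dg X + 1 + a χ * dg χ : ℤ) : ℂ) = 0 := by push_cast at h3 ⊢; linear_combination h3
    exact_mod_cast this
  have p1 := dg_pos X
  have p2 := dg_pos χ
  have e : a χ = δ := by rcases hX.sign with e | e <;> rcases sg with e' | e' <;> rw [e, e'] at h4 ⊢ <;> omega
  have ee : (δ : ℂ) * δ = 1 := by rcases hX.sign with e | e <;> simp [e]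
  have yx : (dg X : ℤ) = dg χ + δ := by rcases hX.sign with e' | e' <;> rw [e, e'] at h4 <;> omega
  have off : ∀ g, ¬ InK A g → ∀ X ∈ Y, (X : G → ℂ) g = (χ : G → ℂ) g + δ := fun g hg X hX' => by
    have := (hX.rel0 hg).2 X hX'
    rw [hs, e] at this
    push_cast at this
    linear_combination (-δ) * this + ((χ : G → ℂ) g - (X : G → ℂ) g) * ee
  refine ⟨δ, χ, Y, dg χ, dg X, ⟨h, he, hX.sign, hX.card, hX.two_le, c1, cY, hX.tr, rfl, fun X' hX' => ?_, yx,
    fun g hg => hg.val (irr_cls χ) fun u hu u1 => e ▸ hX.const χ hχ u hu u1, off,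
    fun t m r hm hr ht => ?_⟩, fun ψ h1 h2 h3 g hg => hg.val (irr_cls ψ) fun u hu u1 => by
      rw [hX.const ψ ((hX.mem ψ).2 ⟨h1, h3⟩) u hu u1, h0 ψ ((hX.mem ψ).2 ⟨h1, h3⟩) h2, Int.cast_zero]⟩
  · have := (hX.rel0 not_inK_one).1 X' hX' X hY
    rw [dg_cast, dg_cast] at this
    exact_mod_cast this
  · have f := hX.relK hm hY
    have yx' : (dg X : ℂ) = dg χ + δ := by exact_mod_cast yx
    have d0 : (dg χ : ℂ) ≠ 0 := Nat.cast_ne_zero.2 p2.ne'
    have d1 : (dg χ : ℂ) + δ ≠ 0 := yx' ▸ Nat.cast_ne_zero.2 p1.ne'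
    rw [hs, off t ht X hY, hr, e, yx'] at f
    have : (Nat.card G : ℂ) * (dg χ - r) ^ 2 = m * (Nat.card 𝐂[t] : ℂ) ^ 2 * (dg χ * dg X) := by
      rw [← f, yx']
      field_simp
      push_cast
      linear_combination (-(Nat.card G : ℂ) * (r ^ 2 - 2 * r * dg χ - dg χ * δ)) * ee
    exact_mod_cast this

/-- all the data for index two -/
structure TA (A : Subgroup G) (ε : ℤ) (χ : IrrCharacter G) (Y : Finset (IrrCharacter G)) (x y : ℕ)
    (u : G) (r : ℤ) (k : ℕ) (f : G → ℤ) : Prop extends T3 A ε χ Y x y u r where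
  van : Van A χ Y
  hf : ∀ g, (χ : G → ℂ) g = f g
  idx' : A.index = x * y * k ^ 2
  hC : (Nat.card 𝐂[u] : ℤ) = k * (x - r)
  abs : ∀ g, g ≠ 1 → |f g| < x

variable {ε r : ℤ} {χ : IrrCharacter G} {Y : Finset (IrrCharacter G)} {x y k : ℕ} {u : G} {f : G → ℤ}

theorem cops (h : T3 A ε χ Y x y u r) : (Nat.card A).Coprime x ∧ (Nat.card A).Coprime y ∧ x.Coprime y := by
  obtain ⟨j, hj⟩ := h.dvdA
  have ee : ε * ε = 1 := by rcases h.sign with rfl | rfl <;> rfl
  have cA : (Y.card : ℤ) * 2 + 1 = Nat.card A := by exact_mod_cast h.card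
  simp only [← Nat.isCoprime_iff_coprime]
  refine ⟨⟨-ε * j, ε, by linear_combination ee + ε * hj⟩, ⟨1 + Y.card * ε * j, -Y.card * ε, ?_⟩,
    ⟨-ε, ε, by linear_combination ee + ε * h.yx⟩⟩
  linear_combination -cA - 2 * Y.card * ee - Y.card * ε * (hj + h.yx)

theorem exists_TA [IsSimpleGroup G] (hna : ∃ a b : G, a * b ≠ b * a) (h : SSC A)
    (he : A.relIndex 𝐍(A) = 2) (hn : 3 < Nat.card A) : ∃ ε χ Y x y u r k f, TA A ε χ Y x y u r k f := by
  obtain ⟨ε, χ, Y, x, y, h2, hv⟩ := exists_van hna h he hn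
  obtain ⟨u, r, h3⟩ := h2.exists_T3 hna
  obtain ⟨a, ha, a1⟩ := A.bot_or_exists_ne_one.resolve_left h.ne
  have ε0 : (ε : ℂ) ≠ 0 := by rcases h2.sign with rfl | rfl <;> simp
  choose f hf using int_of_fixed (χ := χ) (fun ψ => (ψ : G → ℂ) a = ε)
    (fun σ => by simp [h2.valK a (.of_mem ha a1)]) fun ψ h1 hd => by
      by_contra c
      refine ε0 (h1.symm.trans (hv ψ (fun c => ?_) c (fun c => h2.ne1 (eq_triv_of_dg hna ?_)) a (.of_mem ha a1)))
      · have := h2.yx
        rw [h2.dy ψ c, h2.dx] at hd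
        rcases h2.sign with rfl | rfl <;> omega
      · rw [← hd, c, dg_triv]
  obtain ⟨c1, c2, c3⟩ := cops h3
  obtain ⟨X, hX⟩ := h3.exists_Y
  obtain ⟨k, hk⟩ := (c2.mul_left c3).mul_dvd_of_dvd_of_dvd (c1.mul_dvd_of_dvd_of_dvd
    A.card_subgroup_dvd_card (h2.dx ▸ dg_dvd χ)) (h2.dy X hX ▸ dg_dvd X)
  have q := h3.eq
  have C0 : 0 < Nat.card 𝐂[u] := Nat.card_pos
  have n0 : 0 < Nat.card A := Nat.card_pos
  have y0 : 0 < y := h2.dy X hX ▸ dg_pos X
  have x0 := h3.x_pos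
  have lt := h3.lt
  have q' : (Nat.card 𝐂[u] : ℤ) ^ 2 = (x - r) ^ 2 * k := by
    apply mul_left_cancel₀ (a := (Nat.card A * x * y : ℤ)) (by positivity)
    rw [hk] at q
    push_cast at q
    linear_combination -q
  obtain ⟨s, hs⟩ := (Int.pow_dvd_pow_iff two_ne_zero).1 ⟨_, q'⟩
  have sk : s ^ 2 = k := by
    apply mul_left_cancel₀ (pow_ne_zero 2 (show (x : ℤ) - r ≠ 0 by omega))
    rw [← q', hs]; ring
  have s0 : 0 < s := (pos_iff_pos_of_mul_pos (a := (x : ℤ) - r) (by omega)).1 (by omega)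
  lift s to ℕ using s0.le
  obtain rfl : s ^ 2 = k := by exact_mod_cast sk
  refine ⟨ε, χ, Y, x, y, u, r, s, f, h3, hv, hf, Nat.eq_of_mul_eq_mul_left n0
    (by rw [A.card_mul_index, hk]; ring), by rw [hs, mul_comm], fun g g1 => ?_⟩
  have h1 := H6.char_norm_le (irr_chr χ) g
  have h4 := fun e => g1 (eq_one_of_norm_eq hna h2.ne1 e)
  rw [h3.one, hf, Complex.norm_intCast, Complex.norm_natCast] at h1
  rw [hf, Complex.norm_intCast, h2.dx] at h4
  exact_mod_cast h1.lt_of_ne h4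

namespace TA

variable (h : TA A ε χ Y x y u r k f)
include h

theorem hG : Nat.card G = Nat.card A * (x * y * k ^ 2) := by rw [← h.idx', card_mul_index]

theorem f1 : f 1 = x := by exact_mod_cast (h.hf 1).symm.trans h.one

theorem fu : f u = r := by exact_mod_cast (h.hf u).symm.trans h.val

theorem fK {g : G} (hg : InK A g) : f g = ε := by exact_mod_cast (h.hf g).symm.trans (h.valK g hg)

theorem fconj {a g : G} (c : IsConj a g) : f a = f g := by
  exact_mod_cast (h.hf a).symm.trans ((H6.classFun_of_isConj (irr_cls χ) c).trans (h.hf g))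

theorem ee : ε * ε = 1 := by rcases h.sign with rfl | rfl <;> rfl

theorem y_pos : 0 < y := by
  obtain ⟨X, hX⟩ := h.exists_Y
  exact h.dy X hX ▸ dg_pos X

theorem k_pos : 0 < k := Nat.pos_of_ne_zero fun e => A.index_ne_zero_of_finite (by simpa [e] using h.idx')

theorem split {g : G} (hg : InK A g) (w : IrrCharacter G → ℂ) {v : ℂ} (hw : ∀ X ∈ Y, w X = v) :
    ∑ ψ, w ψ * conj ((ψ : G → ℂ) g) = w (triv G) + w χ * ε + v * conj (∑ X ∈ Y, (X : G → ℂ) g) := by
  classical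
  rw [← sum_subset (subset_univ (insert (triv G) (insert χ Y))) fun ψ _ c => by
    simp only [mem_insert, not_or] at c
    rw [h.van ψ c.2.2 c.2.1 c.1 g hg, map_zero, mul_zero], sum_insert (by simp [h.ne1.symm, h.tr]),
    sum_insert h.cY, h.valK g hg, triv_apply, map_sum, mul_sum, sum_congr rfl fun X hX => by rw [hw X hX]]
  simp [add_assoc]

theorem sumY {g : G} (hg : InK A g) : ∑ X ∈ Y, (X : G → ℂ) g = -ε := by
  have h1 := h.split hg (fun ψ => (ψ : G → ℂ) 1) fun X hX => h.oneY hX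
  rw [H6.column_orthogonality_not_isConj (by rw [isConj_one_right]; exact hg.1), triv_apply, h.one] at h1
  have yx : (y : ℂ) = x + ε := by exact_mod_cast h.yx
  have ee : (ε : ℂ) * ε = 1 := by exact_mod_cast h.ee
  apply (starRingEnd ℂ).injective
  apply mul_left_cancel₀ (Nat.cast_ne_zero.2 h.y_pos.ne' : (y : ℂ) ≠ 0)
  rw [map_neg, map_intCast]
  linear_combination -h1 + ε * yx + ee

/-- the order of a centralizer -/
theorem dvd {a : G} (ha : ¬ InK A a) (a1 : a ≠ 1) : (Nat.card 𝐂[a] : ℤ) ∣ k * (x - f a) := by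
  obtain ⟨b, hb, b1⟩ := A.bot_or_exists_ne_one.resolve_left h.ssc.ne
  have key : ∀ g, InK A g → (H31.classCoeff a a g : ℂ) = 𝐂[a].index * 𝐂[a].index / Nat.card G *
      (1 + f a * f a / x * ε + (f a + ε) * (f a + ε) / y * -ε) := fun g hg => by
    rw [H31.classCoeff_eq, sum_congr rfl fun ψ _ => mul_div_right_comm _ _ _, h.split hg _
      (v := (f a + ε) * (f a + ε) / y) fun X hX => by rw [h.off a ha X hX, h.oneY hX, h.hf], h.sumY hg, h.hf,
      h.one]
    simp [triv_apply]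
  have h1 := h.ord a (H31.classCoeff a a b) (f a) (fun c hc c1 => by
    exact_mod_cast (key c (.of_mem hc c1)).trans (key b (.of_mem hb b1)).symm) (h.hf a) ha
  rw [h.hG] at h1
  rw [← Int.pow_dvd_pow_iff two_ne_zero]
  refine (Nat.isCoprime_iff_coprime.2 (h.ssc.cop_cent ha a1)).symm.pow_left.dvd_of_dvd_mul_left
    ⟨H31.classCoeff a a b, mul_left_cancel₀ (a := (x * y : ℤ)) ?_ ?_⟩
  · exact_mod_cast (mul_pos h.x_pos h.y_pos).ne'
  · push_cast at h1
    linear_combination h1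

theorem idx_mod : (Nat.card A : ℤ) ∣ k ^ 2 - 1 := by
  obtain ⟨j, hj⟩ := h.dvdA
  obtain ⟨l, hl⟩ := h.ssc.index_mod
  rw [h.idx', h.idx] at hl
  have cA : (Y.card : ℤ) * 2 + 1 = Nat.card A := by exact_mod_cast h.card
  refine IsCoprime.dvd_of_dvd_mul_left (y := 2) ⟨1, -Y.card, by linarith⟩ ⟨l - j * k ^ 2 * (y + ε), ?_⟩
  push_cast at hl
  linear_combination hl - 2 * k ^ 2 * h.ee - k ^ 2 * (y + ε) * hj - k ^ 2 * ε * h.yx

theorem sums [Fintype G] : ∑ g, f g = 0 ∧ ∑ g, f g ^ 2 = Nat.card G := by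
  have h1 := H6.sum_irr_mul_conj χ.2 (triv G).2 1
  have h2 := H6.sum_irr_mul_conj χ.2 χ.2 1
  rw [if_neg fun e => h.ne1 (Subtype.ext e)] at h1
  rw [if_pos rfl, mul_div_assoc, div_self (h.one ▸ Nat.cast_ne_zero.2 h.x_pos.ne')] at h2
  simp only [triv_apply, map_one, mul_one, h.hf, map_intCast, ← sq] at h1 h2
  exact ⟨by exact_mod_cast h1, by exact_mod_cast h2⟩

open Classical in
theorem row_eq [Fintype G] : ∑ g with ¬ InK A g, (f g + ε) ^ 2 = 2 * A.index := by
  have h1 := h.ssc.sum_K h.idx (f := fun g => (f g + ε) ^ 2) (v := 4) fun g hg => by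
    rw [h.fK hg]; linear_combination 4 * h.ee
  have h2 := sum_filter_add_sum_filter_not univ (InK A) fun g => (f g + ε) ^ 2
  have h3 : ∑ g, (f g + ε) ^ 2 = ∑ g, f g ^ 2 + 2 * ε * ∑ g, f g + ∑ _g : G, (1 : ℤ) := by
    rw [mul_sum, ← sum_add_distrib, ← sum_add_distrib]
    exact sum_congr rfl fun g _ => by linear_combination h.ee
  rw [h.sums.1, h.sums.2, sum_const, card_univ, ← Nat.card_eq_fintype_card, nsmul_eq_mul] at h3
  push_cast at h1
  linarith

/-- the contributions of classes with different element orders -/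
theorem row (T : Finset G) (hT : ∀ a ∈ T, ¬ InK A a) (ho : Set.InjOn orderOf (T : Set G)) :
    ∑ a ∈ T, 𝐂[a].index * (f a + ε) ^ 2 ≤ 2 * (A.index : ℤ) := by
  classical
  haveI := Fintype.ofFinite G
  rw [← h.row_eq, sum_congr rfl (g := fun a => ∑ g with IsConj a g, (f g + ε) ^ 2) fun a _ => ?_,
    ← sum_biUnion fun a ha b hb ne => disjoint_filter.2 fun g _ c c' => ne (ho ha hb ?_)]
  · refine sum_le_sum_of_subset_of_nonneg (fun g hg => ?_) fun _ _ _ => sq_nonneg _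
    obtain ⟨a, ha, c⟩ := mem_biUnion.1 hg
    exact mem_filter.2 ⟨mem_univ _, fun c' => hT a ha (c'.of_isConj (mem_filter.1 c).2)⟩
  · obtain ⟨l, rfl⟩ := isConj_iff.1 (c.trans c'.symm)
    exact ((MulAut.conj l).orderOf_eq a).symm
  · rw [sum_congr rfl fun g hg => by rw [← h.fconj (mem_filter.1 hg).2], sum_const, nsmul_eq_mul,
      ← H6.card_isConj_eq_index, Nat.card_eq_fintype_card, Fintype.card_subtype]

/-- restriction to the dihedral normalizer -/
theorem dih {ψ : G → ℂ} (hψ : IsCharacter G ψ) {d c ρ η : ℤ} (h1 : ψ 1 = d) (hc : ∀ g, InK A g → ψ g = c)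
    (hρ : ψ u = ρ) (hη : η = 1 ∨ η = -1) : 0 ≤ d + (Nat.card A - 1) * c + η * Nat.card A * ρ := by
  classical
  obtain ⟨t, tn, ht⟩ := exists_invol h.two_dvd
  have tA : (⟨t, tn⟩ : 𝐍(A)) ∉ A.subgroupOf 𝐍(A) := fun c =>
    h.ssc.not_inK_two h.two_dvd ht (.of_mem c fun e => by simp [e] at ht)
  obtain ⟨e, he, ee⟩ : ∃ e : ℂˣ, (e : ℂ) = η ∧ e * e = 1 := by
    rcases hη with rfl | rfl
    exacts [⟨1, by simp, by simp⟩, ⟨-1, by simp, by simp⟩]
  have ix : (A.subgroupOf 𝐍(A)).index = 2 := h.idx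
  let s : 𝐍(A) →* ℂˣ := MonoidHom.mk' (fun g => if g ∈ A.subgroupOf 𝐍(A) then 1 else e) fun a b => by
    by_cases ha : a ∈ A.subgroupOf 𝐍(A) <;> by_cases hb : b ∈ A.subgroupOf 𝐍(A) <;>
      simp [mul_mem_iff_of_index_two ix, ha, hb, ee]
  haveI := Fintype.ofFinite G
  obtain ⟨m, hm⟩ := H6.char_inner_nat (H6.isCharacter_restrict 𝐍(A) hψ) (H6.isCharacter_hom s)
  rw [H6.classInner_def, inv_mul_eq_iff_eq_mul₀ H6.card_ne_zero, sum_congr rfl
    (g := fun g : 𝐍(A) => (if g = 1 then (d - c : ℂ) else 0) + η * ρ +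
      if g ∈ A.subgroupOf 𝐍(A) then (c - η * ρ : ℂ) else 0)
    fun g _ => ?_, sum_add_distrib, sum_add_distrib, sum_ite_eq', if_pos (mem_univ _), ← sum_filter,
    sum_const, sum_const, card_univ, ← Fintype.card_subtype, ← Nat.card_eq_fintype_card,
    ← Nat.card_eq_fintype_card, ← (A.subgroupOf 𝐍(A)).card_mul_index, ix,
    Nat.card_congr (subgroupOfEquivOfLe (le_normalizer (H := A))).toEquiv] at hm
  · have : ((d + (Nat.card A - 1) * c + η * Nat.card A * ρ : ℤ) : ℂ) = (Nat.card A * 2 * m : ℕ) := by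
      simp only [nsmul_eq_mul] at hm
      push_cast at hm ⊢
      linear_combination hm
    have : d + (Nat.card A - 1) * c + η * Nat.card A * ρ = (Nat.card A * 2 * m : ℕ) := by exact_mod_cast this
    omega
  · by_cases hg : g ∈ A.subgroupOf 𝐍(A)
    · by_cases g1 : g = 1
      · simp [g1, h1]
      · simp [s, hg, g1, hc g (.of_mem hg fun e => g1 (Subtype.ext e))]
    · have g1 : g ≠ 1 := fun e => hg (e ▸ one_mem _)
      have := H6.classFun_of_isConj (H6.char_isClassFunction hψ) ((h.cls t ht).symm.trans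
        (h.ssc.isConj_mul (h.ssc.odd h.two_dvd) ht tn (a := t⁻¹ * g)
          ((mul_mem_iff_of_index_two ix (a := ⟨t, tn⟩⁻¹)).2 (by simp only [inv_mem_iff, tA, hg]))))
      rw [mul_inv_cancel_left, hρ] at this
      simp [s, hg, g1, ← this, he, mul_comm]

theorem dihX : Nat.card A * (r + ε) ≤ y - 2 * ε := by
  have h1 := h.dih (H6.isCharacter_sum Y fun X _ => irr_chr X) (d := Y.card * y) (c := -ε)
    (ρ := Y.card * (r + ε)) (η := -1) (by simp [sum_congr rfl fun X hX => h.oneY hX])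
    (fun g hg => by simp [h.sumY hg]) (by simp [sum_congr rfl fun X hX => h.valY hX, mul_add]) (.inr rfl)
  have cA : (Y.card : ℤ) * 2 + 1 = Nat.card A := by exact_mod_cast h.card
  have : (2 : ℤ) ≤ Y.card := by exact_mod_cast h.two_le
  rw [← cA] at h1 ⊢
  nlinarith

theorem f_pow {g : G} {m : ℕ} (hm : m.Coprime (orderOf g)) : f (g ^ m) = f g := by
  obtain ⟨σ, hσ⟩ := H8.exists_ringEquiv_pow (orderOf_pos g) hm
  have := H8.IsCharacter_map_eq_pow (irr_chr χ) (σ : ℂ →+* ℂ) (orderOf_pos g) hσ (pow_orderOf_eq_one g)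
  rw [h.hf, h.hf, map_intCast] at this
  exact_mod_cast this.symm

theorem pos {s : ℕ} (hs : s.Prime) {z : G} (hz : orderOf z = s) : 0 ≤ x + (s - 1) * f z := by
  classical
  haveI := Fintype.ofFinite G
  obtain ⟨m, hm⟩ := H6.char_inner_nat (H6.isCharacter_restrict (zpowers z) (irr_chr χ)) H6.isCharacter_one
  rw [H6.classInner_def, inv_mul_eq_iff_eq_mul₀ H6.card_ne_zero, ← add_sum_erase _ _ (mem_univ 1),
    sum_congr rfl (g := fun _ => (f z : ℂ)) fun g hg => ?_, sum_const, nsmul_eq_mul,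
    cast_card_erase_of_mem (mem_univ _), card_univ, ← Nat.card_eq_fintype_card, Nat.card_zpowers, hz] at hm
  · have : x + (s - 1) * f z = (s * m : ℕ) := by
      simp only [Subgroup.coe_one, h.one, map_one, mul_one] at hm
      exact_mod_cast hm
    omega
  · obtain ⟨j, hj⟩ := (mem_powers_iff_mem_zpowers.2 g.2)
    rw [map_one, mul_one, ← hj, h.hf, h.f_pow (hz ▸ (hs.coprime_iff_not_dvd.2 fun c => ne_of_mem_erase hg
      (Subtype.ext (hj.symm.trans (orderOf_dvd_iff_pow_eq_one.1 (hz ▸ c))))).symm)]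

theorem not_inK {g : G} {s : ℕ} (hs : s.Prime) (h1 : s ∣ orderOf g) (h2 : s ∣ A.index) : ¬ InK A g :=
  fun c => not_dvd_of_cop hs h.ssc.cop h2 (h1.trans c.ord)

theorem dvd_idx {g : G} (hg : ¬ InK A g) (g1 : g ≠ 1) : Nat.card 𝐂[g] ∣ A.index :=
  (h.ssc.cop_cent hg g1).symm.dvd_of_dvd_mul_left (A.card_mul_index ▸ card_subgroup_dvd_card _)

end TA

theorem exists_central {s : ℕ} (hs : s.Prime) (hd : s ∣ Nat.card G) :
    ∃ z : G, orderOf z = s ∧ ∀ e, s ^ e ∣ Nat.card G → s ^ e ∣ Nat.card 𝐂[z] := by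
  haveI := Fact.mk hs
  obtain ⟨P⟩ : Nonempty (Sylow s G) := inferInstance
  haveI : Nontrivial P.1 := P.1.nontrivial_iff_ne_bot.2 (P.ne_bot_of_dvd_card hd)
  haveI := P.isPGroup'.center_nontrivial
  obtain ⟨n, hn, e⟩ := (P.isPGroup'.to_subgroup (center P.1)).nontrivial_iff_card.1 inferInstance
  obtain ⟨z, hz⟩ := exists_prime_orderOf_dvd_card' (G := center P.1) s (e ▸ dvd_pow_self s hn.ne')
  refine ⟨z, (orderOf_coe _).trans ((orderOf_coe _).trans hz), fun e he => (P.pow_dvd_card_of_pow_dvd_card he).trans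
    (card_dvd_of_le fun g hg => mem_centralizer_singleton_iff.2
      (congrArg Subtype.val (mem_center_iff.1 z.2 ⟨g, hg⟩)))⟩

end H84.Al
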