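import Mathlib
import Cfsg.Agent.Base

/-! Consecutive integers whose prime divisors are at most seven. -/

set_option autoImplicit false

open Pell Pell.Solution₁

namespace H84.St

variable {d : ℤ}

theorem pow_form (b : Solution₁ d) (n : ℕ) : ∃ u v : ℤ, (b ^ (n + 1)).x = b.x ^ (n + 1) + d * b.y ^ 2 * u ∧
    (b ^ (n + 1)).y = b.y * ((n + 1) * b.x ^ n + d * b.y ^ 2 * v) := by
  induction n with
  | zero => exact ⟨0, 0, by simp, by simp⟩
  | succ n ih =>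
    obtain ⟨u, v, h1, h2⟩ := ih
    refine ⟨u * b.x + (n + 1) * b.x ^ n + d * b.y ^ 2 * v, u + v * b.x, ?_, ?_⟩
    · rw [pow_succ, x_mul, h1, h2]; ring
    · rw [pow_succ, y_mul, h1, h2]; push_cast; ring

theorem exists_new (b : Solution₁ d) (hx : 1 < b.x) (hy : 0 < b.y) (hd : 0 < d) {l M : ℕ} (hl : l.Prime)
    (h : (b ^ l).y ∣ 210 ^ M) : ∃ s : ℕ, s ∈ [2, 3, 5, 7] ∧ (s : ℤ) ∣ (b ^ l).y ∧ ¬ (s : ℤ) ∣ d ∧
      ¬ (s : ℤ) ∣ b.y := by
  by_contra hc
  obtain ⟨n, rfl⟩ : ∃ n, l = n + 1 := ⟨l - 1, (Nat.succ_pred_eq_of_pos hl.pos).symm⟩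
  obtain ⟨-, v, -, h2⟩ := pow_form b n
  have pr := b.prop
  have key : ∀ Q : ℤ, (b ^ (n + 1)).y = b.y * Q → ∀ R, R ∣ Q → 1 < R →
      n + 1 ∈ [2, 3, 5, 7] ∧ ((n + 1 : ℕ) : ℤ) ∣ R ∧ ¬ ((n + 1 : ℕ) : ℤ) ∣ b.x ∧
        ((n + 1 : ℕ) : ℤ) ∣ d * b.y ^ 2 := fun Q hQ R hR R1 => by
    obtain ⟨s, hs, sR⟩ := Int.exists_prime_and_dvd (n := R) (by omega)
    have hp := Int.prime_iff_natAbs_prime.1 hs
    rw [← Int.natAbs_dvd] at sR
    generalize s.natAbs = s at hp sR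
    have hs := Nat.prime_iff_prime_int.1 hp
    have sQ := sR.trans hR
    have s1 : (s : ℤ) ∣ (b ^ (n + 1)).y := hQ ▸ sQ.mul_left _
    have s2 : s ∈ [2, 3, 5, 7] := by
      have : s ∣ 2 * 3 * 5 * 7 := by exact_mod_cast hs.dvd_of_dvd_pow (s1.trans h)
      simp only [hp.dvd_mul, Nat.prime_dvd_prime_iff_eq hp Nat.prime_two,
        Nat.prime_dvd_prime_iff_eq hp Nat.prime_three, Nat.prime_dvd_prime_iff_eq hp Nat.prime_five,
        Nat.prime_dvd_prime_iff_eq hp Nat.prime_seven] at this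
      simp; tauto
    have s3 : (s : ℤ) ∣ d * b.y ^ 2 := by
      by_cases c : (s : ℤ) ∣ d
      · exact c.mul_right _
      · exact (dvd_pow (by_contra fun c' => hc ⟨s, s2, s1, c, c'⟩) two_ne_zero).mul_left _
    have s4 : ¬ (s : ℤ) ∣ b.x := fun c => hs.not_dvd_one (pr ▸ dvd_sub (dvd_pow c two_ne_zero) s3)
    rw [mul_left_cancel₀ hy.ne' (hQ.symm.trans h2), dvd_add_left (s3.mul_right v)] at sQ
    have s5 : s ∣ n + 1 := by
      exact_mod_cast (hs.dvd_or_dvd sQ).resolve_right fun c => s4 (hs.dvd_of_dvd_pow c)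
    rw [← (Nat.prime_dvd_prime_iff_eq hp hl).1 s5]
    exact ⟨s2, sR, s4, s3⟩
  have T0 : 0 < d * b.y ^ 2 := by positivity
  have y0 := (y_pow_succ_pos (by omega) hy n)
  have hv : 1 < (n + 1 : ℤ) * b.x ^ n + d * b.y ^ 2 * v := by
    have e : (b ^ (n + 1)).y = (b ^ n).x * b.y + (b ^ n).y * b.x := by rw [pow_succ, y_mul]
    obtain ⟨m, rfl⟩ : ∃ m, n = m + 1 := ⟨n - 1, by have := hl.two_le; omega⟩
    have := mul_pos (y_pow_succ_pos (by omega) hy m) (zero_lt_one.trans hx)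
    have := x_pow_pos (zero_lt_one.trans hx) (m + 1)
    nlinarith
  obtain ⟨k1, -, k2, t, ht⟩ := key _ h2 _ dvd_rfl hv
  simp only [List.mem_cons, List.not_mem_nil, or_false] at k1
  rcases k1 with e | e | e | e <;> rw [e] at key k2 ht
  · exact k2 (key (2 * b.x) (by simp only [pow_succ, pow_zero, one_mul, y_mul]; ring) b.x
      (dvd_mul_left _ _) hx).2.1
  · have := fun R => key ((2 * b.x - 1) * (2 * b.x + 1)) (by
      simp only [pow_succ, pow_zero, one_mul, y_mul, x_mul]; linear_combination (-b.y) * pr) R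
    have h1 := (this _ (dvd_mul_right _ _) (by omega)).2.1
    have h2 := (this _ (dvd_mul_left _ _) (by omega)).2.1
    omega
  · have := (key (5 * (b.x ^ 4 + 5 * (2 * b.x ^ 2 * t + t ^ 2))) (by
      simp only [pow_succ, pow_zero, one_mul, y_mul, x_mul]
      push_cast at ht
      linear_combination (b.y * (10 * b.x ^ 2 + d * b.y ^ 2 + 5 * t)) * ht) _ (dvd_mul_left _ _) (by
        have : 0 < t := by push_cast at ht; omega
        have : 1 < b.x ^ 4 := one_lt_pow₀ hx (by norm_num)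
        have : 0 < 2 * b.x ^ 2 * t + t ^ 2 := by positivity
        omega)).2.1
    exact k2 ((Nat.prime_iff_prime_int.1 Nat.prime_five).dvd_of_dvd_pow ((dvd_add_left (dvd_mul_right _ _)).1 this))
  · have := (key (7 * (b.x ^ 6 + 7 * (5 * b.x ^ 4 * t + 21 * b.x ^ 2 * t ^ 2 + 7 * t ^ 3))) (by
      simp only [pow_succ, pow_zero, one_mul, y_mul, x_mul]
      push_cast at ht
      linear_combination (b.y * (35 * b.x ^ 4 + 21 * b.x ^ 2 * (d * b.y ^ 2 + 7 * t) + (d * b.y ^ 2) ^ 2 +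
        7 * t * (d * b.y ^ 2) + 49 * t ^ 2)) * ht) _ (dvd_mul_left _ _) (by
        have : 0 < t := by push_cast at ht; omega
        have : 1 < b.x ^ 6 := one_lt_pow₀ hx (by norm_num)
        have : 0 < 5 * b.x ^ 4 * t + 21 * b.x ^ 2 * t ^ 2 + 7 * t ^ 3 := by positivity
        omega)).2.1
    exact k2 ((Nat.prime_iff_prime_int.1 Nat.prime_seven).dvd_of_dvd_pow
      ((dvd_add_left (dvd_mul_right _ _)).1 this))

/-- solutions whose second coordinate is divisible by `s` -/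
def sub (d s : ℤ) : Subgroup (Solution₁ d) where
  carrier := {b | s ∣ b.y}
  one_mem' := dvd_zero s
  mul_mem' := fun ha hb => (dvd_add (hb.mul_left _) (ha.mul_right _)).trans (y_mul _ _).symm.dvd
  inv_mem' := fun ha => ha.neg_right.trans (y_inv _).symm.dvd

theorem dvd_twelve (a : Solution₁ d) (hx : 1 < a.x) (hy : 0 < a.y) (hd : 0 < d) {n M : ℕ} (hn : n ≠ 0)
    (h12 : ∀ s : ℕ, s ∈ [2, 3, 5, 7] → ¬ (s : ℤ) ∣ d → (s : ℤ) ∣ (a ^ 12).y) (h : (a ^ n).y ∣ 210 ^ M) :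
    n ∣ 12 := by
  by_contra hc
  obtain ⟨q, hq⟩ := Nat.gcd_dvd_left n 12
  obtain ⟨l, hl, m, rfl⟩ := Nat.exists_prime_and_dvd (n := q) fun e => hc (by
    rw [hq, e, mul_one]; exact Nat.gcd_dvd_right _ _)
  obtain ⟨k, hk⟩ : ∃ k, n.gcd 12 * m = k + 1 := Nat.exists_eq_succ_of_ne_zero fun e => hn (by
    rw [hq, mul_left_comm, e, mul_zero])
  have e : a ^ n = (a ^ (k + 1)) ^ l := by rw [← pow_mul, ← hk, mul_right_comm, mul_assoc, ← hq]
  have y0 := y_pow_succ_pos (by omega) hy k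
  obtain ⟨s, s1, s2, s3, s4⟩ := exists_new (a ^ (k + 1)) (by
    have := x_pow_pos (zero_lt_one.trans hx) (k + 1)
    have := (a ^ (k + 1)).prop
    have : 0 < d * (a ^ (k + 1)).y ^ 2 := by positivity
    nlinarith) y0 hd hl (e ▸ h)
  refine s4 (show a ^ (k + 1) ∈ sub d s from ?_)
  rw [← hk, pow_mul, ← zpow_natCast a, Nat.gcd_eq_gcd_ab, zpow_add, zpow_mul, zpow_mul, zpow_natCast,
    zpow_natCast]
  exact pow_mem (mul_mem (zpow_mem (e ▸ s2 :) _) (zpow_mem (h12 s s1 s3 :) _)) _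

/-- powers of a solution -/
def pw (d x y : ℕ) : ℕ → ℕ × ℕ
  | 0 => (1, 0)
  | n + 1 => let p := pw d x y n; (p.1 * x + d * (p.2 * y), p.1 * y + p.2 * x)

theorem pw_eq {d x y : ℕ} {a : Solution₁ d} (hx : a.x = x) (hy : a.y = y) (n : ℕ) :
    (a ^ n).x = (pw d x y n).1 ∧ (a ^ n).y = (pw d x y n).2 := by
  induction n with
  | zero => simp [pw]
  | succ n ih => simp [pw, pow_succ, x_mul, y_mul, ih.1, ih.2, hx, hy]

/-- the smaller members of the pairs -/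
def pairs : List ℕ := [1, 2, 3, 4, 5, 6, 7, 8, 9, 14, 15, 20, 24, 27, 35, 48, 49, 63, 80, 125, 224, 2400, 4374]

theorem tab : ∀ d ∈ Nat.divisors 210, d = 1 ∨ ∃ t ∈ [(3, 2), (2, 1), (9, 4), (5, 2), (8, 3), (19, 6), (15, 4),
    (4, 1), (55, 12), (11, 2), (6, 1), (13, 2), (251, 30), (41, 4), (29, 2)],
    t.1 ^ 2 = 1 + d * t.2 ^ 2 ∧ 1 < t.1 ∧ 0 < t.2 ∧ (∀ x < t.1, ∀ y < x, 1 < x → x ^ 2 ≠ 1 + d * y ^ 2) ∧
      (∀ s ∈ [2, 3, 5, 7], ¬ s ∣ d → s ∣ (pw d t.1 t.2 12).2) ∧ ∀ n ∈ Nat.divisors 12,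
        (pw d t.1 t.2 n).1 % 2 = 0 ∨ (pw d t.1 t.2 n).1 / 2 ∈ pairs ∨ ((pw d t.1 t.2 n).2 / ((pw d t.1 t.2 n).2.gcd (210 ^ 100)) ≠ 1 ∧
          ((pw d t.1 t.2 n).2 / ((pw d t.1 t.2 n).2.gcd (210 ^ 100))).Coprime 210) := by
  decide +kernel

theorem stormer {x M : ℕ} (hx : 0 < x) (h : x * (x + 1) ∣ 210 ^ M) : x ∈ pairs := by
  obtain ⟨d, m, e, hd⟩ := Nat.sq_mul_squarefree (x * (x + 1))
  have h' := h.mul_right 210
  rw [← pow_succ, ← e] at h'
  have m0 : 0 < m := Nat.pos_of_ne_zero fun c => by rw [c] at e; nlinarith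
  have d1 := (hd.dvd_pow_iff_dvd M.succ_ne_zero).1 ((dvd_mul_left _ _).trans h')
  rcases tab d (Nat.mem_divisors.2 ⟨d1, by norm_num⟩) with rfl | ⟨⟨u, v⟩, -, t1, t2, t3, t4, t5, t6⟩
  · rcases le_or_gt m x with c | c <;> nlinarith
  dsimp only at *
  have d0 : (0 : ℤ) < d := by exact_mod_cast Nat.pos_of_dvd_of_pos d1 (by norm_num)
  let a : Solution₁ d := .mk u v (by zify at t1; linear_combination t1)
  have ax : 1 < a.x := by simpa [a] using t2
  have ay : 0 < a.y := by simpa [a] using t3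
  have fa : IsFundamental a := ⟨ax, ay, fun {b} hb => by
    by_contra c
    have := b.prop
    have e1 : (b.x.natAbs : ℤ) = b.x := by omega
    refine t4 b.x.natAbs (by simp only [a, x_mk] at c; omega) b.y.natAbs ?_ (by omega) ?_
    · rw [← Nat.pow_lt_pow_iff_left two_ne_zero]
      zify
      rw [sq_abs, sq_abs]
      nlinarith [sq_nonneg b.y]
    · zify
      rw [sq_abs, sq_abs]
      linear_combination this⟩
  obtain ⟨n, hn⟩ := fa.eq_pow_of_nonneg (a := .mk (2 * x + 1) (2 * m)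
    (by zify at e; linear_combination (-4) * e)) (by simp) (by simp)
  have e1 := congrArg Solution₁.x hn
  have e2 := congrArg Solution₁.y hn
  rw [x_mk] at e1
  rw [y_mk] at e2
  have dv : 2 * m ∣ 210 ^ (M + 2) := by
    rw [pow_succ']
    exact mul_dvd_mul (by norm_num) (((dvd_pow_self m two_ne_zero).mul_right d).trans h')
  have n12 := dvd_twelve a ax ay d0 (n := n) (M := M + 2) (by rintro rfl; simp at e2; omega)
    (fun s s1 s2 => by rw [(pw_eq rfl rfl 12).2]; exact_mod_cast t5 s s1 (by exact_mod_cast s2))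
    (by rw [← e2]; exact_mod_cast dv)
  rw [(pw_eq rfl rfl n).1] at e1
  rw [(pw_eq rfl rfl n).2] at e2
  rcases t6 n (Nat.mem_divisors.2 ⟨n12, by norm_num⟩) with c | c | ⟨c, c'⟩
  · omega
  · rwa [show (pw d u v n).1 / 2 = x by omega] at c
  · rw [show (pw d u v n).2 = 2 * m by omega] at c c'
    exact absurd (Nat.eq_one_of_dvd_coprimes (c'.pow_right _) dvd_rfl
      ((Nat.div_dvd_of_dvd (Nat.gcd_dvd_left _ _)).trans dv)) c

end H84.St
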