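import Mathlib
import Cfsg.Agent.Base
import Cfsg.Agent.Lib.Alex.Stormer

/-! The finite search for the possible degrees and orders. -/

set_option autoImplicit false

namespace H84.Al

/-- bounded universal quantifier -/
noncomputable def allLt (n : ℕ) (f : ℕ → Bool) : Bool := Nat.rec true (fun m ih => f m && ih) n

theorem allLt_iff {n : ℕ} {f : ℕ → Bool} : allLt n f = true ↔ ∀ m < n, f m = true := by
  induction n with
  | zero => simp [allLt]
  | succ n ih => rw [Nat.forall_lt_succ_right, ← ih, and_comm, ← Bool.and_eq_true]; rfl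

/-- lower bound for the contribution of a class -/
def W (p n y M D : ℕ) : ℕ := p * (n / M) * ((y : ℤ) - D).natAbs ^ 2

/-- the general lower bound -/
def wt (p n k y D : ℕ) : ℕ := W p n y (n.gcd (k * D)) D

/-- the contribution `a` of a central element of a Sylow `s`-subgroup cannot satisfy `g a = false` -/
noncomputable def ws (p n k x y s : ℕ) (g : ℕ → Bool) : Bool :=
  if n % s = 0 then allLt (2 * x) fun D => k * D % n.gcd (s ^ 40) != 0 || D == 0 ||
    decide (s * x < (s - 1) * D) || g (wt p n k y D) else g 0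

/-- the possible orders -/
def LN : List ℕ := [60, 3360, 504, 360, 1680, 4080, 7980, 4620, 9355500, 13800, 7800, 9828, 6142500, 21420,
  110544, 11760, 952560, 124992, 20160, 8890560, 52416, 32760000, 577886400, 511920, 265680, 11239200,
  5695200, 6920642400]

/-- the outcome of the search -/
def Out (x y p k C : ℕ) : Prop := p * (x * y * k ^ 2) ∈ LN ∧ (¬ 3 ∣ C ∨ ¬ 32 ∣ x * y * k ^ 2 ∨
  (x, y, p, k) ∈ [(64, 63, 5, 21), (64, 63, 13, 105), (2401, 2400, 1201, 1)])

instance (x y p k C : ℕ) : Decidable (Out x y p k C) := by unfold Out; infer_instance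

/-- the test for a given value on the involutions -/
noncomputable def chk0 (x y p k n j D : ℕ) : Bool := D % 4 != 0 || n % (k * D) != 0 ||
  k * D % n.gcd (2 ^ 40) != 0 || decide (D + j + y < 2 * x) ||
  decide (Out x y p k (k * D)) || ws p n k x y 3 fun a => decide (2 * n < wt p n k y D + a) ||
    ws p n k x y 5 fun b => decide (2 * n < wt p n k y D + a + b) ||
      ws p n k x y 7 fun c => decide (2 * n < wt p n k y D + a + b + c)

/-- the test for given degrees -/
noncomputable def chk (x y p k n j : ℕ) : Bool := allLt (2 * j + 1) fun i => chk0 x y p k n j (y + i - j)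

/-- powers below a bound -/
noncomputable def pws (s B : ℕ) (g : ℕ → Bool) : Bool := allLt 14 fun a => decide (B ≤ s ^ a) || g (s ^ a)

/-- the test for all cofactors -/
noncomputable def chk' (x y : ℕ) : Bool := allLt (2 * x - y + 1) fun p => (2 * x - y) % p != 0 ||
  decide (p < 5) || !(allLt p fun m => p % m != 0 || m == 1) || pws 2 (2 * x) fun a => pws 3 (2 * x) fun b =>
    pws 5 (2 * x) fun c => pws 7 (2 * x) fun d => (a * b * c * d) ^ 2 % p != 1 ||
      chk x y p (a * b * c * d) (x * y * (a * b * c * d) ^ 2) ((2 * x - y) / p)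

set_option maxHeartbeats 1000000 in
theorem enum : St.pairs.all (fun n => chk' n (n + 1) && chk' (n + 1) n) = true := by
  decide +kernel

/-- admissible contributions -/
def Adm (p n k x y s w : ℕ) : Prop := (¬ s ∣ n ∧ w = 0) ∨ (s ∣ n ∧ ∃ D < 2 * x, 0 < D ∧
  n.gcd (s ^ 40) ∣ k * D ∧ (s - 1) * D ≤ s * x ∧ w = wt p n k y D)

theorem ws_sound {p n k x y s w : ℕ} {g : ℕ → Bool} (h : ws p n k x y s g = true) (a : Adm p n k x y s w) :
    g w = true := by
  rcases a with ⟨c, rfl⟩ | ⟨c, D, d1, d2, d3, d4, rfl⟩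
  · rwa [ws, if_neg (mt Nat.dvd_of_mod_eq_zero c)] at h
  · rw [ws, if_pos (Nat.mod_eq_zero_of_dvd c), allLt_iff] at h
    simpa [Nat.mod_eq_zero_of_dvd d3, d2.ne', d4.not_gt] using h D d1

theorem pws_sound {s x a : ℕ} {g : ℕ → Bool} (h : pws s (2 * x) g = true) (hs : 2 ≤ s) (hx : x ≤ 4375)
    (ha : s ^ a < 2 * x) : g (s ^ a) = true := by
  simpa [ha.not_ge] using allLt_iff.1 h a (by
    by_contra c
    have := (Nat.pow_le_pow_left hs 14).trans (Nat.pow_le_pow_right (by omega) (not_lt.1 c))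
    omega)

theorem out {x y p k n D j a b c d M w₃ w₅ w₇ : ℕ} (hxy : y = x + 1 ∨ x = y + 1) (x1 : 1 < x) (y0 : 0 < y)
    (hM : x * y ∣ 210 ^ M) (hp : p.Prime) (p5 : 5 ≤ p) (hj : 2 * x = p * j + y)
    (hk : k = 2 ^ a * 3 ^ b * 5 ^ c * 7 ^ d) (ha : 2 ^ a < 2 * x) (hb : 3 ^ b < 2 * x) (hc : 5 ^ c < 2 * x)
    (hd : 7 ^ d < 2 * x) (k1 : k ^ 2 % p = 1) (hn : n = x * y * k ^ 2) (d1 : 4 ∣ D) (d2 : k * D ∣ n)
    (d3 : n.gcd (2 ^ 40) ∣ k * D) (d4 : 2 * x ≤ D + j + y) (d5 : y ≤ D + j) (d6 : D ≤ y + j)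
    (h3 : Adm p n k x y 3 w₃) (h5 : Adm p n k x y 5 w₅) (h7 : Adm p n k x y 7 w₇)
    (hw : wt p n k y D + w₃ + w₅ + w₇ ≤ 2 * n) : Out x y p k (k * D) := by
  have e := List.all_eq_true.1 enum
  have bd : ∀ m ∈ St.pairs, m ≤ 4374 := by decide
  obtain ⟨h, hx⟩ : chk' x y = true ∧ x ≤ 4375 := by
    rcases hxy with rfl | rfl
    · have := St.stormer (by omega) hM
      exact ⟨(Bool.and_eq_true _ _ ▸ e x this).1, by have := bd x this; omega⟩
    · have := St.stormer y0 (mul_comm y _ ▸ hM)
      exact ⟨(Bool.and_eq_true _ _ ▸ e y this).2, by have := bd y this; omega⟩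
  have e1 : 2 * x - y = p * j := by omega
  have j0 : 0 < j := Nat.pos_of_ne_zero fun e => by rw [e] at hj; omega
  have h1 := allLt_iff.1 h p (by rw [e1]; exact Nat.lt_succ_of_le (Nat.le_mul_of_pos_right p j0))
  have h2 : (allLt p fun m => p % m != 0 || m == 1) = true := allLt_iff.2 fun m hm => by
    by_contra c
    simp only [Bool.or_eq_true, bne_iff_ne, beq_iff_eq, not_or, not_not] at c
    exact c.2 (((Nat.dvd_prime hp).1 (Nat.dvd_of_mod_eq_zero c.1)).resolve_right hm.ne)
  simp only [e1, Nat.mul_mod_right, bne_self_eq_false, p5.not_gt, decide_false, h2, Bool.not_true,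
    Bool.false_or, Nat.mul_div_cancel_left j hp.pos] at h1
  have h4 := pws_sound (pws_sound (pws_sound (pws_sound h1 le_rfl hx ha) (by norm_num) hx hb) (by norm_num) hx hc)
    (by norm_num) hx hd
  simp only [← hk, ← hn, k1, bne_self_eq_false, Bool.false_or] at h4
  have h6 := allLt_iff.1 h4 (D + j - y) (by omega)
  rw [show y + (D + j - y) - j = D by omega] at h6
  by_contra hc
  simp only [chk0, Nat.mod_eq_zero_of_dvd d1, Nat.mod_eq_zero_of_dvd d2, Nat.mod_eq_zero_of_dvd d3, d4.not_gt, hc,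
    bne_self_eq_false, decide_false, Bool.false_or] at h6
  have h8 := ws_sound h6 h3
  rw [decide_eq_false (by omega), Bool.false_or] at h8
  have h9 := ws_sound h8 h5
  rw [decide_eq_false (by omega), Bool.false_or] at h9
  exact hw.not_gt (of_decide_eq_true (ws_sound h9 h7))

end H84.Al
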