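import Mathlib
import Cfsg.Agent.Base
import Cfsg.Agent.Lib.Alex.Chr
import Cfsg.Agent.Lib.Alex.Enum

/-! The possible orders. -/

set_option autoImplicit false
set_option linter.unusedSectionVars false
set_option linter.style.haveILetI false

open Cfsg Subgroup Finset H17.Ord H84.SC

namespace H84.Al

variable {G : Type*} [Group G] [Finite G] {A : Subgroup G}

local notation "𝐂[" a "]" => Subgroup.centralizer ({a} : Set G)

variable {ε r : ℤ} {χ : IrrCharacter G} {Y : Finset (IrrCharacter G)} {x y k : ℕ} {u : G} {f : G → ℤ}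

theorem ne_one {s : ℕ} (hs : s.Prime) {g : G} (h : s ∣ orderOf g) : g ≠ 1 := fun e =>
  hs.not_dvd_one (by simpa [e] using h)

theorem cent_le {g z : G} {t : ℕ} (e : g ^ t = z ^ t) (c : t.Coprime (orderOf z)) : 𝐂[g] ≤ 𝐂[z] := fun a ha => by
  obtain ⟨m, hm⟩ := (mem_zpowers_pow_iff.2 c : z ∈ zpowers (z ^ t))
  have : Commute a ((g ^ t) ^ m) := ((show Commute a g from mem_centralizer_singleton_iff.1 ha).pow_right t).zpow_right m
  rw [e, show (z ^ t) ^ m = z from hm] at this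
  exact mem_centralizer_singleton_iff.2 this

namespace TA

variable (h : TA A ε χ Y x y u r k f)
include h

theorem elt {a : G} {s : ℕ} (hs : s.Prime) (h1 : s ∣ orderOf a) (h2 : s ∣ A.index) :
    ∃ D < 2 * x, 0 < D ∧ (D : ℤ) = x - f a ∧ Nat.card 𝐂[a] ∣ A.index.gcd (k * D) ∧ ∀ M, 0 < M →
      Nat.card 𝐂[a] ∣ M → (W (Nat.card A) A.index y M D : ℤ) ≤ 𝐂[a].index * (f a + ε) ^ 2 := by
  have a1 := ne_one hs h1
  have aK := h.not_inK hs h1 h2
  have := abs_lt.1 (h.abs a a1)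
  obtain ⟨D, hD⟩ : ∃ D : ℕ, (D : ℤ) = x - f a := ⟨(x - f a).toNat, by omega⟩
  have d := h.dvd aK a1
  refine ⟨D, by omega, by omega, hD, Nat.dvd_gcd (h.dvd_idx aK a1) (by rw [← hD] at d; exact_mod_cast d),
    fun M M0 hM => ?_⟩
  obtain ⟨m, hm⟩ := h.dvd_idx aK a1
  have e : 𝐂[a].index = Nat.card A * m := Nat.eq_of_mul_eq_mul_left Nat.card_pos
    (by rw [card_mul_index, ← A.card_mul_index, hm]; ring)
  have : A.index / M ≤ m := by
    rw [← Nat.mul_div_cancel_left m (Nat.card_pos (α := 𝐂[a])), ← hm]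
    exact Nat.div_le_div_left (Nat.le_of_dvd M0 hM) Nat.card_pos
  rw [e, W, show f a + ε = y - D by rw [hD, h.yx]; ring]
  generalize A.index / M = l at this
  push_cast
  rw [sq_abs]
  gcongr

theorem idx_pos : 0 < A.index := Nat.pos_of_ne_zero A.index_ne_zero_of_finite

theorem cen {s : ℕ} (hs : s.Prime) (h2 : s ∣ A.index) : ∃ z : G, orderOf z = s ∧ ∃ D < 2 * x, 0 < D ∧
    (D : ℤ) = x - f z ∧ (∀ e, s ^ e ∣ A.index → s ^ e ∣ Nat.card 𝐂[z]) ∧ (s - 1) * D ≤ s * x ∧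
      Nat.card 𝐂[z] ∣ A.index.gcd (k * D) ∧ ∀ M, 0 < M →
      Nat.card 𝐂[z] ∣ M → (W (Nat.card A) A.index y M D : ℤ) ≤ 𝐂[z].index * (f z + ε) ^ 2 := by
  obtain ⟨z, hz, hc⟩ := exists_central hs (h2.trans A.index_dvd_card)
  obtain ⟨D, d1, d2, d3, d4, d5⟩ := h.elt hs hz.symm.dvd h2
  refine ⟨z, hz, D, d1, d2, d3, fun e he => hc e (he.trans A.index_dvd_card), ?_, d4, d5⟩
  have := h.pos hs hz
  zify [hs.one_le]
  rw [d3]
  linarith

theorem pow_lt {s e : ℕ} (hs : s.Prime) (he : s ^ e ∣ k) : s ^ e < 2 * x := by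
  obtain ⟨m, k', h1, hk⟩ := Nat.exists_eq_pow_mul_and_not_dvd h.k_pos.ne' s hs.ne_one
  have le : e ≤ m := (Nat.pow_dvd_pow_iff_le_right hs.one_lt).1
    (((hs.coprime_iff_not_dvd.2 h1).pow_left e).dvd_of_dvd_mul_right (hk ▸ he))
  refine (Nat.pow_le_pow_right hs.pos le).trans_lt ?_
  rcases m.eq_zero_or_pos with rfl | m0
  · have := h.x_pos; rw [pow_zero]; omega
  have d : s ^ (m + m) ∣ A.index := ⟨x * y * k' ^ 2, by rw [h.idx', hk]; ring⟩
  obtain ⟨z, -, D, d1, d2, -, d4, -, d5, -⟩ := h.cen hs ((dvd_pow_self s (by omega)).trans d)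
  have := ((d4 _ d).trans d5).trans (Nat.gcd_dvd_right _ _)
  rw [hk, pow_add, mul_assoc, Nat.mul_dvd_mul_iff_left (pow_pos hs.pos m)] at this
  exact (Nat.le_of_dvd d2 (((hs.coprime_iff_not_dvd.2 h1).pow_left m).dvd_of_dvd_mul_left this)).trans_lt d1

theorem adm {s : ℕ} (hs : s.Prime) (h2 : s ∣ A.index) : ∃ z : G, orderOf z = s ∧ ∃ D < 2 * x, 0 < D ∧
    (D : ℤ) = x - f z ∧ A.index.gcd (s ^ 40) ∣ k * D ∧ (s - 1) * D ≤ s * x ∧
      (wt (Nat.card A) A.index k y D : ℤ) ≤ 𝐂[z].index * (f z + ε) ^ 2 := by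
  obtain ⟨z, hz, D, d1, d2, d3, d4, d5, d6, d7⟩ := h.cen hs h2
  obtain ⟨e, -, he⟩ := (Nat.dvd_prime_pow hs).1 (A.index.gcd_dvd_right (s ^ 40))
  exact ⟨z, hz, D, d1, d2, d3, he ▸ ((d4 e (he ▸ Nat.gcd_dvd_left _ _)).trans d6).trans (Nat.gcd_dvd_right _ _),
    d5, d7 _ (Nat.gcd_pos_of_pos_left _ h.idx_pos) d6⟩

theorem two_dvd_idx : 2 ∣ A.index := h.two_dvd.trans (relIndex_dvd_index_of_le le_normalizer)

theorem out [IsSimpleGroup G] (hna : ∃ a b : G, a * b ≠ b * a) (hp : (Nat.card A).Prime) {a b c d : ℕ}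
    (hn : A.index = 2 ^ a * 3 ^ b * 5 ^ c * 7 ^ d) : Out x y (Nat.card A) k (Nat.card 𝐂[u]) := by
  classical
  have key : ∀ s, ∃ (z : G) (w : ℕ), s.Prime → Adm (Nat.card A) A.index k x y s w ∧ (s ∣ A.index →
      orderOf z = s ∧ (w : ℤ) ≤ 𝐂[z].index * (f z + ε) ^ 2 ∧ ∃ D : ℕ, (D : ℤ) = x - f z ∧
        A.index.gcd (s ^ 40) ∣ k * D ∧ w = wt (Nat.card A) A.index k y D) := fun s => by
    by_cases c : s.Prime ∧ s ∣ A.index
    · obtain ⟨z, hz, D, d1, d2, d3, d4, d5, d6⟩ := h.adm c.1 c.2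
      exact ⟨z, _, fun _ => ⟨.inr ⟨c.2, D, d1, d2, d4, d5, rfl⟩, fun _ => ⟨hz, d6, D, d3, d4, rfl⟩⟩⟩
    · exact ⟨1, 0, fun hs => ⟨.inl ⟨fun e => c ⟨hs, e⟩, rfl⟩, fun e => absurd ⟨hs, e⟩ c⟩⟩
  choose z w hz using key
  have pr : ∀ s ∈ ({2, 3, 5, 7} : Finset ℕ).filter (· ∣ A.index), s.Prime ∧ s ∣ A.index := fun s hs =>
    ⟨(by decide : ∀ s ∈ ({2, 3, 5, 7} : Finset ℕ), s.Prime) s (mem_filter.1 hs).1, (mem_filter.1 hs).2⟩
  have oz := fun s hs => ((hz s (pr s hs).1).2 (pr s hs).2).1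
  have h1 := h.row ((({2, 3, 5, 7} : Finset ℕ).filter (· ∣ A.index)).image z) (fun a ha => by
    obtain ⟨s, hs, rfl⟩ := mem_image.1 ha
    exact h.not_inK (pr s hs).1 (oz s hs).symm.dvd (pr s hs).2) fun a ha b hb e => by
      obtain ⟨s, hs, rfl⟩ := mem_image.1 ha
      obtain ⟨t, ht, rfl⟩ := mem_image.1 hb
      rw [← (oz s hs).symm.trans (e.trans (oz t ht))]
  rw [sum_image fun s hs t ht e => (oz s hs).symm.trans ((congrArg orderOf e).trans (oz t ht))] at h1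
  have h2 : ∑ s ∈ ({2, 3, 5, 7} : Finset ℕ), (w s : ℤ) ≤ 2 * A.index := by
    refine le_trans ?_ h1
    rw [sum_filter]
    refine sum_le_sum fun s hs => ?_
    have hs' := (by decide : ∀ s ∈ ({2, 3, 5, 7} : Finset ℕ), s.Prime) s hs
    split_ifs with c
    · exact ((hz s hs').2 c).2.1
    · rw [((hz s hs').1.resolve_right fun e => c e.1).2]; rfl
  obtain ⟨o2, -, D, d1, d2, d3⟩ := (hz 2 Nat.prime_two).2 h.two_dvd_idx
  rw [h.fconj (h.cls _ o2), h.fu] at d1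
  have eC : Nat.card 𝐂[u] = k * D := by have := h.hC; rw [← d1] at this; exact_mod_cast this
  obtain ⟨j, hj⟩ := h.dvdA
  obtain ⟨r', hr, r4, r5, -⟩ := invol_val hna (fun e => h.ne1 (eq_triv_of_dg hna e)) h.u2
  obtain rfl : r' = r := by exact_mod_cast hr.symm.trans h.val
  rw [h.dx] at r4 r5
  have b1 := h.dih (irr_chr χ) h.one h.valK h.val (.inl rfl)
  have b2 := h.dih (irr_chr χ) h.one h.valK h.val (.inr rfl)
  have b3 := h.dihX
  have yx := h.yx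
  have lt := h.lt
  have sg := h.sign
  have cA := h.card
  have t2 := h.two_le
  have p0 : (0 : ℤ) < Nat.card A := by omega
  have j0 : 0 ≤ j := nonneg_of_mul_nonneg_right (by omega) p0
  lift j to ℕ using j0
  have c1 : r' + ε ≤ j := le_of_mul_le_mul_left (by linarith) p0
  have c2 : r' ≤ j + ε := le_of_mul_le_mul_left (by linarith) p0
  have c3 : -r' ≤ j + ε := le_of_mul_le_mul_left (by linarith) p0
  have dk : k ∣ 2 ^ a * 3 ^ b * 5 ^ c * 7 ^ d := hn ▸ h.idx' ▸ (dvd_pow_self k two_ne_zero).mul_left _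
  obtain ⟨k1, k7, e1, e7, rfl⟩ := Nat.dvd_mul.1 dk
  obtain ⟨k4, k5, e4, e5, rfl⟩ := Nat.dvd_mul.1 e1
  obtain ⟨k2, k3, e2, e3, rfl⟩ := Nat.dvd_mul.1 e4
  obtain ⟨a', -, rfl⟩ := (Nat.dvd_prime_pow Nat.prime_two).1 e2
  obtain ⟨b', -, rfl⟩ := (Nat.dvd_prime_pow Nat.prime_three).1 e3
  obtain ⟨c', -, rfl⟩ := (Nat.dvd_prime_pow Nat.prime_five).1 e5
  obtain ⟨d', -, rfl⟩ := (Nat.dvd_prime_pow Nat.prime_seven).1 e7
  rw [eC]
  refine Al.out (M := a + b + c + d) (j := j) (by omega) (by omega) h.y_pos ?_ hp (by omega)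
    (by zify; linarith) rfl (h.pow_lt Nat.prime_two (((dvd_mul_right _ _).mul_right _).mul_right _))
    (h.pow_lt Nat.prime_three (((dvd_mul_left _ _).mul_right _).mul_right _))
    (h.pow_lt Nat.prime_five ((dvd_mul_left _ _).mul_right _)) (h.pow_lt Nat.prime_seven (dvd_mul_left _ _))
    ?_ h.idx' (by omega) (eC ▸ h.dvd_idx (h.ssc.not_inK_two h.two_dvd h.u2) (ne_one Nat.prime_two h.u2.symm.dvd))
    d2 (by omega) (by omega) (by omega) (hz 3 Nat.prime_three).1 (hz 5 Nat.prime_five).1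
    (hz 7 Nat.prime_seven).1 ?_
  · refine (Dvd.intro _ h.idx'.symm).trans ?_
    rw [hn, pow_add, pow_add, pow_add]
    gcongr <;> norm_num
  · have := (Nat.modEq_iff_dvd.2 h.idx_mod).symm
    rwa [Nat.ModEq, Nat.mod_eq_of_lt hp.one_lt] at this
  · rw [← d3]
    simp only [mem_insert, mem_singleton, Nat.reduceEqDiff, or_self, not_false_eq_true, sum_insert,
      sum_singleton] at h2
    omega

end TA

end H84.Al
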