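import Mathlib
import Cfsg.Agent.Base
import Cfsg.Agent.Lib.Alex.Num

/-! Three special cases. -/

set_option autoImplicit false
set_option linter.unusedSectionVars false
set_option linter.style.haveILetI false

open Cfsg Subgroup Finset H17.Ord H84.SC

namespace H84.Al

variable {G : Type*} [Group G] [Finite G] {A : Subgroup G}

local notation "𝐍(" A ")" => Subgroup.normalizer (A : Set G)
local notation "𝐂[" a "]" => Subgroup.centralizer ({a} : Set G)

variable {ε r : ℤ} {χ : IrrCharacter G} {Y : Finset (IrrCharacter G)} {x y k : ℕ} {u : G} {f : G → ℤ}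

theorem ord_dvd (g : G) : orderOf g ∣ Nat.card 𝐂[g] :=
  orderOf_dvd_natCard _ (mem_centralizer_singleton_iff.2 rfl)

/-- an element inverted by as many involutions as possible -/
theorem inv_of_coef {u g : G} (hu : orderOf u = 2) (h : Nat.card 𝐂[g] ≤ H31.classCoeff u u g) {a b : G}
    (ha : a ∈ 𝐂[g]) (hb : b ∈ 𝐂[g]) : a * b = b * a := by
  have tt : u * u = 1 := by rw [← sq, ← hu, pow_orderOf_eq_one]
  have key : ∀ p : {p : G × G // IsConj u p.1 ∧ IsConj u p.2 ∧ p.1 * p.2 = g},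
      p.1.1 * g * p.1.1⁻¹ = g⁻¹ := fun ⟨⟨v, w⟩, hv, hw, e⟩ => by
    have k1 := H33.mul_self_of_isConj tt hv
    have k2 := H33.mul_self_of_isConj tt hw
    simp only at *
    rw [← e, mul_inv_rev, inv_eq_of_mul_eq_one_right k1, inv_eq_of_mul_eq_one_right k2,
      ← mul_assoc, k1, one_mul]
  obtain ⟨⟨q⟩, -⟩ := Nat.card_pos_iff.1 (Nat.card_pos.trans_le h)
  have sj := (Function.Injective.bijective_of_nat_card_le (f := fun p : {p : G × G // IsConj u p.1 ∧
    IsConj u p.2 ∧ p.1 * p.2 = g} => (⟨q.1.1⁻¹ * p.1.1, mem_centralizer_singleton_iff.2 (by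
      calc _ = q.1.1⁻¹ * (p.1.1 * g * p.1.1⁻¹) * p.1.1 := by group
        _ = _ := by rw [key p, ← key q]; group)⟩ : 𝐂[g])) (fun p p' e => by
      have := mul_left_cancel (congrArg Subtype.val e)
      exact Subtype.ext (Prod.ext this (mul_left_cancel
        ((p.2.2.2.trans p'.2.2.2.symm).trans (by rw [this]))))) h).2
  have iv : ∀ c ∈ 𝐂[g], q.1.1 * c * q.1.1 = c⁻¹ := fun c hc => by
    obtain ⟨p, hp⟩ := sj ⟨c, hc⟩
    rw [← Subtype.mk.inj hp, mul_inv_cancel_left, mul_inv_rev, inv_inv,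
      inv_eq_of_mul_eq_one_right (H33.mul_self_of_isConj tt p.2.1)]
  apply inv_injective
  rw [← iv _ (mul_mem ha hb), mul_inv_rev, ← iv a ha, ← iv b hb]
  calc _ = q.1.1 * a * (q.1.1 * q.1.1) * b * q.1.1 := by rw [H33.mul_self_of_isConj tt q.2.1]; group
    _ = _ := by group

/-- a strongly self-centralizing subgroup with a normalizer of index two modulo four -/
theorem rank_of_index {B : Subgroup G} (h : SSC B) (ho : Odd (Nat.card B)) (hi : ¬ 4 ∣ (𝐍(B)).index) :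
    PRankLE 2 2 G := fun E _ hE => by
  classical
  by_contra c
  haveI := Fintype.ofFinite G
  obtain ⟨m, hm⟩ := IsPGroup.iff_card.1 (show IsPGroup 2 E from fun a => ⟨1, Subtype.ext (hE a a.2)⟩)
  have h8 : 2 ^ 3 ∣ Nat.card E := hm ▸ pow_dvd_pow 2 (by
    by_contra c'; exact c (hm ▸ Nat.pow_le_pow_right two_pos (by omega)))
  refine hi ?_
  rw [index, Nat.card_eq_fintype_card, MulAction.card_eq_sum_card_group_div_card_stabilizer E]
  refine dvd_sum fun ω _ => ?_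
  obtain ⟨g, hg⟩ := QuotientGroup.mk_surjective ω.out
  obtain ⟨a, ha, a1⟩ := B.bot_or_exists_ne_one.resolve_left h.ne
  have : ¬ 2 < Fintype.card (MulAction.stabilizer E ω.out) := fun c => by
    obtain ⟨v, w, z, n1, n2, n3⟩ := Fintype.two_lt_card_iff.1 c
    have key : ∀ v w : MulAction.stabilizer E ω.out, v ≠ w →
        g⁻¹ * (v⁻¹ * w).1.1 * g * a * (g⁻¹ * (v⁻¹ * w).1.1 * g)⁻¹ = a⁻¹ := fun v w ne => by
      refine h.inverts ho ?_ ?_ ha
      · refine ((MulAut.conj g⁻¹).orderOf_eq _).trans (orderOf_eq_prime (hE _ (v⁻¹ * w).1.2) fun e => ne ?_)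
          |> (by simpa using ·)
        exact inv_mul_eq_one.1 (Subtype.ext (Subtype.ext e))
      · have : (g : G ⧸ 𝐍(B)) = ((v⁻¹ * w).1.1 * g : G) :=
          hg.trans ((v⁻¹ * w).2.symm.trans (congrArg ((v⁻¹ * w).1 • ·) hg.symm))
        simpa [mul_assoc] using QuotientGroup.eq.1 this
    have e : a⁻¹ = a := by
      have k1 := congrArg Inv.inv (key v w n1)
      rw [inv_inv] at k1
      calc a⁻¹ = _ := (key v z n2).symm
        _ = g⁻¹ * (v⁻¹ * w).1.1 * g * (g⁻¹ * (w⁻¹ * z).1.1 * g * a * (g⁻¹ * (w⁻¹ * z).1.1 * g)⁻¹) *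
          (g⁻¹ * (v⁻¹ * w).1.1 * g)⁻¹ := by simp [mul_assoc]
        _ = a := by rw [key w z n3]; exact .trans (by simp [mul_assoc]) k1
    refine a1 (orderOf_eq_one_iff.1 (Nat.eq_one_of_dvd_coprimes (Nat.coprime_two_left.2 ho)
      (orderOf_dvd_of_pow_eq_one ?_) (B.orderOf_dvd_natCard ha)))
    rw [sq, ← mul_inv_cancel a, e]
  have p := Fintype.card_pos (α := MulAction.stabilizer E ω.out)
  rw [← Nat.card_eq_fintype_card (α := E)]
  generalize Fintype.card (MulAction.stabilizer E ω.out) = l at *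
  interval_cases l <;> omega

namespace TA

theorem pair (h : TA A ε χ Y x y u r k f) {s t : ℕ} (hs : s.Prime) (ht : t.Prime) (ne : s ≠ t)
    (sn : s ∣ A.index) (tn : t ∣ A.index) {z : G} (hz : orderOf z = s) (hd : t ∣ Nat.card 𝐂[z]) {M D : ℕ}
    (M0 : 0 < M) (hM : Nat.card 𝐂[z] ∣ M) (hD : (D : ℤ) = x - f z)
    (hw : (W (Nat.card A) A.index y M D : ℤ) ≤ 𝐂[z].index * (f z + ε) ^ 2) :
    ∃ a < 2 * x, 0 < a ∧ t ∣ a ∧ ∃ b < 2 * x, 0 < b ∧ b ≡ D [MOD t] ∧ b ≡ a [MOD s] ∧ t * s ∣ (M.gcd (k * a)).gcd (k * b) ∧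
      W (Nat.card A) A.index y M D + wt (Nat.card A) A.index k y a +
        W (Nat.card A) A.index y ((M.gcd (k * a)).gcd (k * b)) b ≤ 2 * A.index := by
  classical
  haveI := Fact.mk ht
  obtain ⟨⟨θ, hθ⟩, o⟩ := exists_prime_orderOf_dvd_card' t hd
  rw [← orderOf_coe] at o
  have cm : Commute θ z := mem_centralizer_singleton_iff.1 hθ
  have cp := (Nat.coprime_primes ht hs).2 ne.symm
  have og : orderOf (θ * z) = t * s := by
    rw [cm.orderOf_mul_eq_mul_orderOf_of_coprime (by rw [o, hz]; exact cp), o, hz]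
  have e1 : (θ * z) ^ t = z ^ t := by rw [cm.mul_pow, ← o, pow_orderOf_eq_one, one_mul]
  have e2 : (θ * z) ^ s = θ ^ s := by rw [cm.mul_pow, ← hz, pow_orderOf_eq_one, mul_one]
  obtain ⟨a, a1, a0, a2, a3, a4⟩ := h.elt ht o.symm.dvd tn
  obtain ⟨b, b1, b0, b2, b3, b4⟩ := h.elt ht (og ▸ dvd_mul_right t s) tn
  have d : Nat.card 𝐂[θ * z] ∣ (M.gcd (k * a)).gcd (k * b) := Nat.dvd_gcd (Nat.dvd_gcd
    ((card_dvd_of_le (cent_le e1 (hz ▸ cp))).trans hM) (((card_dvd_of_le (cent_le e2 (o ▸ cp.symm))).trans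
      a3).trans (Nat.gcd_dvd_right _ _))) (b3.trans (Nat.gcd_dvd_right _ _))
  have m := fun {p : ℕ} (hp : p.Prime) g => modEq_pow (irr_chr χ) (k := 1) hp (h.hf g) (h.hf _)
  have m1 := m ht θ
  have m2 := m ht (θ * z)
  have m3 := m hs (θ * z)
  rw [pow_one] at m1 m2 m3
  rw [show θ ^ t = 1 from o ▸ pow_orderOf_eq_one θ, h.f1] at m1
  rw [e1, h.f_pow (hz ▸ cp)] at m2
  rw [e2, h.f_pow (o ▸ cp.symm)] at m3
  have n1 : t * s ≠ s := fun e => ht.ne_one ((Nat.mul_eq_right hs.ne_zero).1 e)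
  have n2 : t * s ≠ t := fun e => hs.ne_one ((Nat.mul_eq_left ht.ne_zero).1 e)
  have h1 := h.row {z, θ, θ * z} (by
    simp only [mem_insert, mem_singleton, forall_eq_or_imp, forall_eq]
    exact ⟨h.not_inK hs hz.symm.dvd sn, h.not_inK ht o.symm.dvd tn, h.not_inK ht (og ▸ dvd_mul_right t s) tn⟩)
    (by simp [Set.InjOn, hz, o, og, ne, ne.symm, n1, n2, n1.symm, n2.symm])
  rw [sum_insert (by
    rw [mem_insert, mem_singleton, not_or]
    exact ⟨fun e => ne (by rw [← hz, e, o]), fun e => n1 (by rw [← og, ← e, hz])⟩),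
    sum_pair fun e => n2 (by rw [← og, ← e, o])] at h1
  refine ⟨a, a1, a0, by exact_mod_cast a2 ▸ m1.symm.dvd, b, b1, b0, Int.natCast_modEq_iff.1 ?_,
    Int.natCast_modEq_iff.1 ?_, og ▸ (ord_dvd _).trans d, ?_⟩
  · rw [b2, hD]; exact m2.symm.sub_left _
  · rw [b2, a2]; exact m3.symm.sub_left _
  · have := a4 _ (Nat.gcd_pos_of_pos_left _ h.idx_pos) a3
    have := b4 _ (Nat.gcd_pos_of_pos_left _ (Nat.gcd_pos_of_pos_left _ M0)) d
    unfold wt
    zify
    linarith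

theorem spec (h : TA A ε χ Y 64 63 u r k f) {p t : ℕ} (hp : Nat.card A = p) (ht : t.Prime) (ne : 7 ≠ t)
    (h1 : 7 ∣ k) (h2 : ¬ 7 ∣ k / 7) (h3 : t ∣ k)
    (h4 : ∀ C ∈ (k * 49).divisors, 343 ∣ C → W p (64 * 63 * k ^ 2) 63 C 49 ≤ 2 * (64 * 63 * k ^ 2) → t ∣ C)
    (h5 : ¬ ∃ a < 2 * 64, 0 < a ∧ t ∣ a ∧ ∃ b < 2 * 64, 0 < b ∧ b ≡ 49 [MOD t] ∧ b ≡ a [MOD 7] ∧
      t * 7 ∣ ((k * 49).gcd (k * a)).gcd (k * b) ∧ W p (64 * 63 * k ^ 2) 63 (k * 49) 49 +
        wt p (64 * 63 * k ^ 2) k 63 a + W p (64 * 63 * k ^ 2) 63 (((k * 49).gcd (k * a)).gcd (k * b)) b ≤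
          2 * (64 * 63 * k ^ 2)) : False := by
  obtain ⟨l, rfl⟩ := h1
  rw [Nat.mul_div_cancel_left l (by norm_num)] at h2
  have i := h.idx'
  have d : 7 ^ 3 ∣ A.index := ⟨64 * 9 * l ^ 2, by rw [i]; ring⟩
  have d7 : 7 ∣ A.index := (by norm_num : 7 ∣ 7 ^ 3).trans d
  obtain ⟨z, hz, D, -, d1, d2, d3, d4, d5, d6⟩ := h.cen Nat.prime_seven d7
  have d8 := d5.trans (Nat.gcd_dvd_right _ _)
  obtain rfl : D = 49 := by
    have := (d3 3 d).trans d8
    rw [pow_succ', mul_assoc, Nat.mul_dvd_mul_iff_left (by norm_num)] at this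
    have := ((Nat.prime_seven.coprime_iff_not_dvd.2 h2).pow_left 2).dvd_of_dvd_mul_left this
    omega
  have k0 : 0 < 7 * l * 49 := mul_pos h.k_pos (by norm_num)
  have r1 := h.row {z} (by simpa using h.not_inK Nat.prime_seven hz.symm.dvd d7) (by simp)
  rw [sum_singleton] at r1
  have := h.pair Nat.prime_seven ht ne d7 (i ▸ (dvd_pow h3 two_ne_zero).mul_left _) hz
    (h4 _ (Nat.mem_divisors.2 ⟨d8, k0.ne'⟩) (d3 3 d) (by
      rw [← i, ← hp]; exact_mod_cast (d6 _ Nat.card_pos dvd_rfl).trans r1)) k0 d8 d2 (d6 _ k0 d8)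
  rw [i, hp] at this
  exact h5 this

theorem specC (h : TA A ε χ Y 64 63 u r 105 f) (hp : Nat.card A = 13) : False :=
  h.spec hp Nat.prime_five (by norm_num) (by norm_num) (by norm_num) (by norm_num) (by decide +kernel)
    (by decide +kernel)

theorem specD (h : TA A ε χ Y 64 63 u r 21 f) (hp : Nat.card A = 5) : False :=
  h.spec hp Nat.prime_three (by norm_num) (by norm_num) (by norm_num) (by norm_num) (by decide +kernel)
    (by decide +kernel)

theorem specB (h : TA A ε χ Y 2401 2400 u r 1 f) (hp : Nat.card A = 1201) : PRankLE 2 2 G := by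
  classical
  haveI := Fintype.ofFinite G
  obtain rfl : ε = -1 := by have := h.yx; omega
  have hG := h.hG
  have i := h.idx'
  rw [hp] at hG
  have d7 : 7 ∣ A.index := by rw [i]; norm_num
  obtain ⟨X, hX⟩ := h.exists_Y
  have v7 : ∀ g, 7 ∣ orderOf g → f g = 0 := fun g hg => by
    exact_mod_cast (h.hf g).symm.trans (van_of_mul (c := 1201 * 2400) Nat.prime_seven (by rw [hG, h.dx]; norm_num)
      (by norm_num) hg)
  have c7 : ∀ g, 7 ∣ orderOf g → Nat.card 𝐂[g] ∣ 7 ^ 4 := fun g hg => by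
    obtain ⟨D, -, -, d1, d2, -⟩ := h.elt Nat.prime_seven hg d7
    rw [v7 g hg] at d1
    exact (d2.trans (Nat.gcd_dvd_right _ _)).trans (show 1 * D = 7 ^ 4 by omega).dvd
  have vo : ∀ g, g ≠ 1 → ¬ InK A g → ¬ 7 ∣ orderOf g → f g = 1 := fun g g1 gK g7 => by
    obtain ⟨s, hs, d⟩ := Nat.exists_prime_and_dvd (orderOf_eq_one_iff.not.2 g1)
    have d1 : s ∣ 2400 := d.trans (((Nat.prime_seven.coprime_iff_not_dvd.2 g7).pow_left 4).symm.dvd_of_dvd_mul_left
      ((ord_dvd g).trans (i ▸ h.dvd_idx gK g1)))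
    have := h.off g gK X hX
    rw [van_of_mul (c := 1201 * 2401) hs (by rw [hG, h.dy X hX]; norm_num) (not_dvd_of_cop hs (by norm_num) d1) d,
      h.hf] at this
    have : (0 : ℤ) = f g + -1 := by exact_mod_cast this
    omega
  have sp : ∀ (F : G → ℤ) (v : ℤ), (∀ g, InK A g → F g = v) → ∑ g, F g - ∑ g, F g * f g =
      -2400 * F 1 + (Nat.card G - A.index) * v + ∑ g with 7 ∣ orderOf g, F g := fun F v hv => by
    rw [← h.ssc.sum_K h.idx hv, ← sum_sub_distrib, sum_congr rfl (g := fun g => (if g = 1 then -2400 * F g else 0) +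
      (if InK A g then 2 * F g else 0) + if 7 ∣ orderOf g then F g else 0) fun g _ => ?_, sum_add_distrib,
      sum_add_distrib, sum_ite_eq', if_pos (mem_univ _), ← sum_filter, ← sum_filter, mul_sum]
    · rfl
    by_cases g1 : g = 1
    · simp [g1, not_inK_one, h.f1]; ring
    by_cases c1 : 7 ∣ orderOf g
    · simp [g1, c1, h.not_inK Nat.prime_seven c1 d7, v7 g c1]
    by_cases c2 : InK A g
    · simp [g1, c1, c2, h.fK c2]; ring
    · simp [g1, c1, c2, vo g g1 c2 c1]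
  have uK := h.ssc.not_inK_two h.two_dvd h.u2
  obtain rfl : r = 1 := h.fu ▸ vo u (ne_one Nat.prime_two h.u2.symm.dvd) uK (by rw [h.u2]; norm_num)
  have eN : 𝐂[u].index = 1201 * 2401 := by
    have h1 := 𝐂[u].card_mul_index
    have := h.hC
    rw [show Nat.card 𝐂[u] = 2400 by omega] at h1
    omega
  have s1 := sp (fun _ => 1) 1 fun _ _ => rfl
  have s2 := sp (fun g => H31.classCoeff u u g) 1201 fun g hg => by rw [h.coef h.ssc h.two_dvd hg, hp]; rfl
  have s3 := H31.sum_classCoeff_mul_irr (triv G).2 u u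
  have s4 := H31.sum_classCoeff_mul_irr χ.2 u u
  simp only [one_mul, h.sums.1, sum_const, card_univ, ← Nat.card_eq_fintype_card, nsmul_eq_mul, hG, i] at s1
  simp only [triv_apply, mul_one, div_one, eN] at s3
  rw [h.val, h.one, eN, show ((1201 * 2401 : ℕ) : ℂ) * (1201 * 2401 : ℕ) * ((1 : ℤ) * (1 : ℤ) / (2401 : ℕ)) =
    (1201 * 1201 * 2401 : ℕ) by norm_num] at s4
  simp only [h.hf] at s4
  rw [show ∑ g, (H31.classCoeff u u g : ℤ) = (1201 * 2401 : ℕ) * (1201 * 2401 : ℕ) by exact_mod_cast s3,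
    show ∑ g, (H31.classCoeff u u g : ℤ) * f g = (1201 * 1201 * 2401 : ℕ) by exact_mod_cast s4,
    coef_one u h.u2, eN, hG, i] at s2
  have cZ : #{g : G | 7 ∣ orderOf g} = 2402 * 2400 := by omega
  obtain ⟨a, ha, le⟩ := exists_le_of_sum_le (s := {g : G | 7 ∣ orderOf g}) (f := fun _ => (2401 : ℤ))
    (g := fun g => H31.classCoeff u u g) (card_pos.1 (by omega)) (by rw [sum_const, cZ]; simp; omega)
  have a7 := (mem_filter.1 ha).2
  have l1 := Nat.le_of_dvd (by norm_num) (c7 a a7)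
  have l2 := coef_le h.u2 a
  have cB : Nat.card 𝐂[a] = 7 ^ 4 := by omega
  have k7 : ∀ g, InK 𝐂[a] g → 7 ∣ orderOf g := fun g hg => by
    by_contra c
    exact not_inK_of_cop (cB ▸ (Nat.prime_seven.coprime_iff_not_dvd.2 c).pow_left 4) hg
  have sB : SSC 𝐂[a] := ⟨fun e => by simp [e] at cB, fun b hb b1 => (eq_of_le_of_card_ge
    (fun c hc => mem_centralizer_singleton_iff.2 (inv_of_coef h.u2 (by omega) hc hb))
    (cB ▸ Nat.le_of_dvd (by norm_num) (c7 b (k7 b (.of_mem hb b1))))).symm⟩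
  have cK := sB.card_K
  rw [filter_congr (q := fun g => 7 ∣ orderOf g) fun g _ => ⟨k7 g, fun hg => sB.inK (sB.inK_of_prime
    Nat.prime_seven (cB ▸ by norm_num) (orderOf_pow_orderOf_div (orderOf_pos g).ne' hg))
      (Commute.self_pow _ _) (ne_one Nat.prime_seven hg)⟩, cZ, cB, hG] at cK
  have := (𝐍(𝐂[a])).card_mul_index
  rw [show Nat.card 𝐍(𝐂[a]) = 2401 * 1200 by omega, hG] at this
  exact rank_of_index sB (cB ▸ by decide) (by omega)

end TA

end H84.Al
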